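import Groth.Agent.Sga3.H784.NAMain
import Groth.Agent.Sga3.H798.CentSep
import Groth.Agent.Sga3.H798.FpqcIso
import Groth.Agent.Sga3.H799.FibCrit
import Groth.Agent.Sga3B.SplitBc264

/-!
# Cartan subgroups and base change

* `isCartanOver_of_iso`: transport of structure;
* `isCartanOver_pullback`, `isCartanOver_of_pullback`: extension of the algebraically closed base field;
* `isCartanOver_pullback_geom`: geometric fibres of a Cartan subgroup at arbitrary geometric points;
* `isCartan_of_geom`: a smooth subgroup whose geometric fibres (at one geometric point above each point) are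
  Cartan subgroups is a Cartan subgroup;
* `isCartan_pullback`: base change of Cartan subgroups.
-/

set_option autoImplicit false
universe u
open CategoryTheory MonoidalCategory CartesianMonoidalCategory MonObj GrpObj AlgebraicGeometry Limits

namespace Groth.Agent.Sga3.H831.CartBc

open Groth.Agent.Sga3B Groth.Agent.Sga3B.RedIso Groth.Agent.Sga3B.BcNat Groth.Agent.Sga3.H784
  Groth.Agent.Sga3B.RG.BrMax

section iso

variable {S : Scheme.{u}} {H H' G G' Z Z' : Over S} [GrpObj H] [GrpObj H'] [GrpObj G] [GrpObj G'] [GrpObj Z]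
  [GrpObj Z']

omit [GrpObj H] [GrpObj H'] in
/-- Transport of the centralizer along isomorphisms. -/
theorem isCentralizerOf_of_iso {i : H ⟶ G} {i' : H' ⟶ G'} {j : Z ⟶ G} {j' : Z' ⟶ G'} (eH : H ≅ H')
    (eZ : Z ≅ Z') (eG : G ≅ G') [IsMonHom eZ.hom] [IsMonHom eG.hom] (h1 : eH.hom ≫ i' = i ≫ eG.hom)
    (h2 : eZ.hom ≫ j' = j ≫ eG.hom) (h : Red.IsCentralizerOf i j) : Red.IsCentralizerOf i' j' := by
  obtain ⟨ha, hb, hc⟩ := h
  have hZi : IsMonHom eZ.inv := inferInstance
  have hGi : IsMonHom eG.inv := inferInstance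
  have hj : j' = eZ.inv ≫ j ≫ eG.hom := by rw [← h2, Iso.inv_hom_id_assoc]
  have hi : i' = eH.inv ≫ i ≫ eG.hom := by rw [← h1, Iso.inv_hom_id_assoc]
  refine ⟨by rw [hj]; infer_instance, by rw [hj]; infer_instance, fun X g => ?_⟩
  have e1 : (∃ z : X ⟶ Z', z ≫ j' = g) ↔ ∃ z : X ⟶ Z, z ≫ j = g ≫ eG.inv := by
    constructor
    · rintro ⟨z, rfl⟩
      exact ⟨z ≫ eZ.inv, by rw [hj]; simp⟩
    · rintro ⟨z, hz⟩
      exact ⟨z ≫ eZ.hom, by rw [Category.assoc, h2, reassoc_of% hz]; simp⟩
  rw [e1, hc]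
  constructor
  · intro h X' x t
    have h3 := congrArg (fun q => q ≫ eG.hom) (h X' x (t ≫ eH.inv))
    simp only [MonObj.mul_comp, Category.assoc, Iso.inv_hom_id, Category.comp_id] at h3
    rw [hi]
    exact h3
  · intro h X' x t
    have h3 := congrArg (fun q => q ≫ eG.inv) (h X' x (t ≫ eH.hom))
    have h1' : eH.hom ≫ i' ≫ eG.inv = i := by
      rw [← Category.assoc, h1, Category.assoc, Iso.hom_inv_id, Category.comp_id]
    simp only [MonObj.mul_comp, Category.assoc] at h3
    rw [h1'] at h3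
    exact h3

end iso

section field

variable {K : Type u} [Field K] [IsAlgClosed K]

omit [IsAlgClosed K] in
/-- Precomposition of an absolutely maximal torus with an isomorphism. -/
lemma isAbsMax_of_iso {T T' G : Over (Spec (CommRingCat.of K))} [GrpObj T] [GrpObj T'] [GrpObj G]
    {i : T ⟶ G} {i' : T' ⟶ G} (e : T ≅ T') [IsMonHom e.hom] (he : e.hom ≫ i' = i) (h : IsAbsMax i)
    (hT' : Red.IsTorus T') : IsAbsMax i' := by
  obtain ⟨h1, h2, h3, h4⟩ := h
  have hei : IsMonHom e.inv := inferInstance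
  have hi : i' = e.inv ≫ i := by rw [← he, Iso.inv_hom_id_assoc]
  refine ⟨by rw [hi]; infer_instance, by rw [hi]; infer_instance, hT', fun T'' _ j _ _ f hT'' hf => ?_⟩
  have h5 := h4 T'' j (e.hom ≫ f) hT'' (by rw [Category.assoc, hf, he])
  have h6 := Iso.isIso_hom e
  exact @IsIso.of_isIso_comp_left _ _ _ _ _ e.hom f h6 h5

/-- Transport of Cartan subgroups along isomorphisms. -/
theorem isCartanOver_of_iso {C C' G G' : Over (Spec (CommRingCat.of K))} [GrpObj C] [GrpObj C']
    [GrpObj G] [GrpObj G'] {c : C ⟶ G} {c' : C' ⟶ G'} (eC : C ≅ C') (eG : G ≅ G') [IsMonHom eC.hom]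
    [IsMonHom eG.hom] (h : eC.hom ≫ c' = c ≫ eG.hom) (hc : SGA3x.IsCartanOver K c) :
    SGA3x.IsCartanOver K c' := by
  obtain ⟨-, -, T, _, i, hi, hci⟩ := hc
  have h1 : Red.IsMaximalTorus (i ≫ eG.hom) :=
    (isMaximalTorus_iff_abs _).2 (isAbsMax_comp_iso i eG ((isMaximalTorus_iff_abs i).1 hi))
  have h2 := isCentralizerOf_of_iso (Iso.refl T) eC eG (i' := i ≫ eG.hom) (by simp) h hci
  exact ⟨h2.1, h2.2.1, T, inferInstance, _, h1, h2⟩

variable {L : Type u} [Field L] [IsAlgClosed L]

/-- Cartan subgroups are stable under extension of the algebraically closed base field. -/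
theorem isCartanOver_pullback (σ : Spec (CommRingCat.of L) ⟶ Spec (CommRingCat.of K))
    {G C : Over (Spec (CommRingCat.of K))} [GrpObj G] [GrpObj C] [LocallyOfFiniteType G.hom]
    {c : C ⟶ G} (hc : SGA3x.IsCartanOver K c) : SGA3x.IsCartanOver L ((Over.pullback σ).map c) := by
  obtain ⟨-, -, T, _, i, hi, hci⟩ := hc
  have h2 := SplitBc264.isCentralizerOf_bc σ hci
  exact ⟨h2.1, h2.2.1, _, inferInstance, _, (NAMain.isMaximalTorus_pullback_iff σ i hi.1 hi.2.2.1).2 hi, h2⟩

end field

section down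

/-- Base change along a flat surjective morphism is faithful. -/
theorem map_injective {S S' : Scheme.{u}} (σ : S' ⟶ S) [Flat σ] [Surjective σ] {X Y : Over S}
    {f g : X ⟶ Y} (h : (Over.pullback σ).map f = (Over.pullback σ).map g) : f = g := by
  have hX : Epi (pullback.fst X.hom σ) := Flat.epi_of_flat_of_surjective _
  apply Over.OverMorphism.ext
  rw [← cancel_epi (pullback.fst X.hom σ)]
  have h1 := (H798.FpqcIso.isPullback_map_left σ f).w
  have h2 := (H798.FpqcIso.isPullback_map_left σ g).w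
  rw [h1, h2, h]

/-- Isomorphisms descend along flat surjective quasi-compact morphisms. -/
theorem isIso_of_pullback {S S' : Scheme.{u}} (σ : S' ⟶ S) [Flat σ] [Surjective σ] [QuasiCompact σ]
    {X Y : Over S} (φ : X ⟶ Y) (h : IsIso ((Over.pullback σ).map φ)) : IsIso φ := by
  refine H798.FpqcIso.isIso_of_fpqc_cover σ (fun V hV => ⟨σ ⁻¹ᵁ V, ?_, ?_⟩) φ fun s' => ⟨⊤, trivial, ?_⟩
  · exact QuasiCompact.isCompact_preimage (f := σ) V V.2 hV.isCompact
  · exact Set.image_preimage_eq _ σ.surjective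
  · have h1 : IsIso ((Over.pullback (⊤ : S'.Opens).ι).map ((Over.pullback σ).map φ)) := inferInstance
    have h2 : (Over.pullback ((⊤ : S'.Opens).ι ≫ σ)).map φ =
        (Over.pullbackComp (⊤ : S'.Opens).ι σ).hom.app X ≫
          (Over.pullback (⊤ : S'.Opens).ι).map ((Over.pullback σ).map φ) ≫
          (Over.pullbackComp (⊤ : S'.Opens).ι σ).inv.app Y := by
      have h3 := (Over.pullbackComp (⊤ : S'.Opens).ι σ).hom.naturality φ
      rw [← Category.assoc]
      erw [← h3]
      rw [Category.assoc, Iso.hom_inv_id_app, Category.comp_id]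
    rw [h2]
    infer_instance

/-- Flatness of extensions of fields. -/
lemma flat_spec {K L : Type u} [Field K] [Field L] (σ : Spec (CommRingCat.of L) ⟶ Spec (CommRingCat.of K)) :
    Flat σ := by
  have h1 : IsIntegral (Spec (CommRingCat.of K)) := inferInstance
  have h2 : Subsingleton (Spec (CommRingCat.of K)) := inferInstanceAs (Subsingleton (PrimeSpectrum K))
  infer_instance

lemma surjective_spec {K L : Type u} [Field K] [Field L]
    (σ : Spec (CommRingCat.of L) ⟶ Spec (CommRingCat.of K)) : Surjective σ := by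
  have h2 : Subsingleton (Spec (CommRingCat.of K)) := inferInstanceAs (Subsingleton (PrimeSpectrum K))
  exact ⟨fun y => ⟨IsLocalRing.closedPoint L, Subsingleton.elim _ _⟩⟩

variable {K L : Type u} [Field K] [IsAlgClosed K] [Field L] [IsAlgClosed L]

/-- Cartan subgroups descend along extensions of algebraically closed fields. -/
theorem isCartanOver_of_pullback (σ : Spec (CommRingCat.of L) ⟶ Spec (CommRingCat.of K))
    {G C : Over (Spec (CommRingCat.of K))} [GrpObj G] [GrpObj C] [Smooth G.hom] [LocallyOfFiniteType C.hom]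
    (c : C ⟶ G) [IsMonHom c] [Mono c] (h : SGA3x.IsCartanOver L ((Over.pullback σ).map c)) :
    SGA3x.IsCartanOver K c := by
  have hσf := flat_spec σ
  have hσs := surjective_spec σ
  have hsep : IsSeparated G.hom := Groth.Agent.Localalg.GrpSchComp2.isSeparated_hom G
  obtain ⟨-, -, T', _, i', hi', hc'⟩ := h
  have hi'1 := hi'.1
  have hi'2 := hi'.2.1
  obtain ⟨T₀, _, t₀, ht₀⟩ := NAMain.exists_isMaximalTorus C
  have ht1 := ht₀.1
  have ht2 := ht₀.2.1
  have htL := (NAMain.isMaximalTorus_pullback_iff σ t₀ ht₀.1 ht₀.2.2.1).2 ht₀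
  -- `T'` is contained in `C_L`
  obtain ⟨τ, hτ⟩ := (hc'.2.2 T' i').2 (fun X' x t => by
    rw [← MonObj.mul_comp, ← MonObj.mul_comp, SplitBc264.torus_comm hi'.2.2.1])
  have hτm : IsMonHom τ := by
    have : IsMonHom (τ ≫ (Over.pullback σ).map c) := by rw [hτ]; infer_instance
    exact Sga3C.SubGrp.isMonHom_of_comp_mono τ ((Over.pullback σ).map c)
  have hClft : LocallyOfFiniteType ((Over.pullback σ).obj C).hom :=
    inferInstanceAs (LocallyOfFiniteType (pullback.snd C.hom σ))
  obtain ⟨f, hf⟩ := NAMain.exists_factor_of_commute ((Over.pullback σ).map t₀) htL τ hi'.2.2.1 (by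
    intro t r
    rw [← cancel_mono ((Over.pullback σ).map c), MonObj.mul_comp, MonObj.mul_comp]
    have h1 := (hc'.2.2 _ ((t ≫ (Over.pullback σ).map t₀) ≫ (Over.pullback σ).map c)).1 ⟨_, rfl⟩ _ (𝟙 _) r
    rw [Category.id_comp] at h1
    rw [Category.assoc r, hτ]
    exact h1)
  have hfm : IsMonHom f := by
    have : IsMonHom (f ≫ (Over.pullback σ).map t₀) := by rw [hf]; infer_instance
    exact Sga3C.SubGrp.isMonHom_of_comp_mono f ((Over.pullback σ).map t₀)
  have hcomp : f ≫ (Over.pullback σ).map (t₀ ≫ c) = i' := by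
    rw [Functor.map_comp, ← Category.assoc, hf, hτ]
  have hTL : Red.IsTorus (Red.bc σ T₀) := htL.2.2.1
  have hiso : IsIso f := ((isMaximalTorus_iff_abs i').1 hi').2.2.2 _ ((Over.pullback σ).map (t₀ ≫ c)) f
    hTL hcomp
  have hmax : Red.IsMaximalTorus (t₀ ≫ c) := by
    rw [← NAMain.isMaximalTorus_pullback_iff σ (t₀ ≫ c) inferInstance ht₀.2.2.1,
      isMaximalTorus_iff_abs]
    have hm : IsMonHom (asIso f).hom := hfm
    exact isAbsMax_of_iso (asIso f) hcomp ((isMaximalTorus_iff_abs i').1 hi') hTL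
  -- the centralizer
  have hcL : Red.IsCentralizerOf ((Over.pullback σ).map (t₀ ≫ c)) ((Over.pullback σ).map c) := by
    have hm1 : IsMonHom (Iso.refl (Red.bc σ C)).hom := inferInstanceAs (IsMonHom (𝟙 _))
    have hm2 : IsMonHom (Iso.refl (Red.bc σ G)).hom := inferInstanceAs (IsMonHom (𝟙 _))
    exact isCentralizerOf_of_iso (asIso f) (Iso.refl _) (Iso.refl _) (by simpa using hcomp) (by simp) hc'
  obtain ⟨Z, _, z, hz, hz1, hz2, hz3⟩ := H798.CentSep.exists_smooth_centralizer (t₀ ≫ c) ht₀.2.2.1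
  have hz4 := hz.1
  have hz5 := hz.2.1
  have hzL := SplitBc264.isCentralizerOf_bc σ hz
  obtain ⟨a, ha⟩ := (hz.2.2 C c).2 (fun X' x t => by
    apply map_injective σ
    rw [Functor.map_mul, Functor.map_mul, Functor.map_comp, Functor.map_comp]
    have h1 := (hcL.2.2 _ ((Over.pullback σ).map x ≫ (Over.pullback σ).map c)).1 ⟨_, rfl⟩ _ (𝟙 _)
      ((Over.pullback σ).map t)
    rwa [Category.id_comp] at h1)
  have haiso : IsIso a := by
    apply isIso_of_pullback σ
    obtain ⟨b, hb⟩ := (hcL.2.2 _ ((Over.pullback σ).map z)).2 (by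
      intro X' x t
      exact (hzL.2.2 _ (x ≫ (Over.pullback σ).map z)).1 ⟨_, rfl⟩ _ (𝟙 _) t |> fun h => by
        rwa [Category.id_comp] at h)
    refine ⟨b, ?_, ?_⟩
    · rw [← cancel_mono ((Over.pullback σ).map c), Category.assoc, hb, ← Functor.map_comp, ha,
        Category.id_comp]
    · rw [← cancel_mono ((Over.pullback σ).map z), Category.assoc, ← Functor.map_comp, ha, hb,
        Category.id_comp]
  have ham : IsMonHom (asIso a).symm.hom := by
    have h1 : IsMonHom a := by
      have : IsMonHom (a ≫ z) := by rw [ha]; infer_instance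
      exact Sga3C.SubGrp.isMonHom_of_comp_mono a z
    have h2 : IsMonHom (asIso a).hom := h1
    exact (inferInstance : IsMonHom (asIso a).inv)
  have hcent : Red.IsCentralizerOf (t₀ ≫ c) c := by
    have hm2 : IsMonHom (Iso.refl G).hom := inferInstanceAs (IsMonHom (𝟙 _))
    refine isCentralizerOf_of_iso (Iso.refl _) (asIso a).symm (Iso.refl G) (by simp) ?_ hz
    rw [Iso.symm_hom, asIso_inv, IsIso.inv_comp_eq, Iso.refl_hom, Category.comp_id, ha]
  exact ⟨inferInstance, inferInstance, T₀, inferInstance, t₀ ≫ c, hmax, hcent⟩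

end down

section base

variable {S S' : Scheme.{u}} {G C : Over S} [GrpObj G] [GrpObj C]

/-- Geometric points factor through `Red.geomPt`. -/
theorem exists_factor_geomPt {L : Type u} [Field L] [IsAlgClosed L] (y : Spec (CommRingCat.of L) ⟶ S)
    (s : S) (hs : y (IsLocalRing.closedPoint L) = s) :
    ∃ θ : Spec (CommRingCat.of L) ⟶ Spec (CommRingCat.of (AlgebraicClosure (S.residueField s))),
      θ ≫ Red.geomPt s = y := by
  obtain ⟨φ, hφ⟩ := H799.FibCrit.exists_factor_residueField y s hs
  let a1 : Algebra (S.residueField s) L := φ.hom.toAlgebra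
  let e : AlgebraicClosure (S.residueField s) →ₐ[S.residueField s] L := IsAlgClosed.lift
  refine ⟨Spec.map (CommRingCat.ofHom e.toRingHom), ?_⟩
  rw [← hφ, Red.geomPt, ← Category.assoc, ← Spec.map_comp]
  congr 2
  ext a
  exact e.commutes a

lemma geomPt_apply (s : S) (x : Spec (CommRingCat.of (AlgebraicClosure (S.residueField s)))) :
    Red.geomPt s x = s := by
  rw [Red.geomPt, Scheme.Hom.comp_apply]
  exact Scheme.fromSpecResidueField_apply _ _

/-- Composition of base changes. -/
theorem isCartanOver_comp_iff {K : Type u} [Field K] [IsAlgClosed K]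
    (θ : Spec (CommRingCat.of K) ⟶ S') (f : S' ⟶ S) (c : C ⟶ G) :
    SGA3x.IsCartanOver K ((Over.pullback (θ ≫ f)).map c) ↔
      SGA3x.IsCartanOver K ((Over.pullback θ).map ((Over.pullback f).map c)) := by
  constructor
  · exact isCartanOver_of_iso (und (BcIso.bcCompIso θ f C)) (und (BcIso.bcCompIso θ f G)) (comp_nat θ f c)
  · exact isCartanOver_of_iso (und (BcIso.bcCompIso θ f C).symm) (und (BcIso.bcCompIso θ f G).symm)
      (comp_nat_inv θ f c)

/-- **Geometric fibres of a Cartan subgroup.** -/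
theorem isCartanOver_pullback_geom [LocallyOfFiniteType G.hom] {c : C ⟶ G} (hc : SGA3x.IsCartan c)
    {L : Type u} [Field L] [IsAlgClosed L] (y : Spec (CommRingCat.of L) ⟶ S) :
    SGA3x.IsCartanOver L ((Over.pullback y).map c) := by
  obtain ⟨s, hs⟩ : ∃ s, y (IsLocalRing.closedPoint L) = s := ⟨_, rfl⟩
  obtain ⟨θ, hθ⟩ := exists_factor_geomPt y s hs
  have key : ∀ (y' : Spec (CommRingCat.of L) ⟶ S), θ ≫ Red.geomPt s = y' →
      SGA3x.IsCartanOver L ((Over.pullback y').map c) := by
    rintro _ rfl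
    rw [isCartanOver_comp_iff]
    have : LocallyOfFiniteType ((Over.pullback (Red.geomPt s)).obj G).hom :=
      inferInstanceAs (LocallyOfFiniteType (pullback.snd G.hom _))
    exact isCartanOver_pullback θ (hc.2.2.2 s)
  exact key y hθ

/-- The geometric fibre at `s` is a Cartan subgroup if this is true at some geometric point above `s`. -/
theorem isCartanOver_geomPt_of_pullback [Smooth G.hom] [LocallyOfFiniteType C.hom] (c : C ⟶ G) [IsMonHom c]
    [Mono c] {L : Type u} [Field L] [IsAlgClosed L] (y : Spec (CommRingCat.of L) ⟶ S) (s : S)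
    (hs : y (IsLocalRing.closedPoint L) = s) (h : SGA3x.IsCartanOver L ((Over.pullback y).map c)) :
    SGA3x.IsCartanOver (AlgebraicClosure (S.residueField s)) ((Over.pullback (Red.geomPt s)).map c) := by
  obtain ⟨θ, hθ⟩ := exists_factor_geomPt y s hs
  have key : ∀ (y' : Spec (CommRingCat.of L) ⟶ S), θ ≫ Red.geomPt s = y' →
      SGA3x.IsCartanOver L ((Over.pullback y').map c) →
      SGA3x.IsCartanOver (AlgebraicClosure (S.residueField s)) ((Over.pullback (Red.geomPt s)).map c) := by
    rintro _ rfl h'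
    rw [isCartanOver_comp_iff] at h'
    have h1 : Smooth ((Over.pullback (Red.geomPt s)).obj G).hom :=
      inferInstanceAs (Smooth (pullback.snd G.hom _))
    have h2 : LocallyOfFiniteType ((Over.pullback (Red.geomPt s)).obj C).hom :=
      inferInstanceAs (LocallyOfFiniteType (pullback.snd C.hom _))
    exact isCartanOver_of_pullback θ ((Over.pullback (Red.geomPt s)).map c) h'
  exact key y hθ h

/-- **Criterion at geometric points.** -/
theorem isCartan_of_geom [Smooth G.hom] [Smooth C.hom] (c : C ⟶ G) [IsMonHom c] [Mono c]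
    (h : ∀ s : S, ∃ (L : Type u) (_ : Field L) (_ : IsAlgClosed L) (y : Spec (CommRingCat.of L) ⟶ S),
      y (IsLocalRing.closedPoint L) = s ∧ SGA3x.IsCartanOver L ((Over.pullback y).map c)) :
    SGA3x.IsCartan c := by
  refine ⟨inferInstance, inferInstance, inferInstance, fun s => ?_⟩
  obtain ⟨L, _, _, y, hy, h1⟩ := h s
  exact isCartanOver_geomPt_of_pullback c y s hy h1

/-- **Base change of Cartan subgroups.** -/
theorem isCartan_pullback [LocallyOfFiniteType G.hom] {c : C ⟶ G} (hc : SGA3x.IsCartan c) (f : S' ⟶ S) :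
    SGA3x.IsCartan ((Over.pullback f).map c) := by
  have h1 := hc.1
  have h2 := hc.2.1
  have h3 : Smooth C.hom := hc.2.2.1
  refine ⟨inferInstance, inferInstance, inferInstanceAs (Smooth (pullback.snd C.hom f)), fun s' => ?_⟩
  rw [← isCartanOver_comp_iff]
  exact isCartanOver_pullback_geom hc _

/-- Being a Cartan subgroup can be checked after a surjective base change. -/
theorem isCartan_of_pullback [Smooth G.hom] [Smooth C.hom] (c : C ⟶ G) [IsMonHom c] [Mono c] (f : S' ⟶ S)
    [Surjective f] (h : SGA3x.IsCartan ((Over.pullback f).map c)) : SGA3x.IsCartan c := by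
  refine isCartan_of_geom c fun s => ?_
  obtain ⟨s', rfl⟩ := f.surjective s
  refine ⟨_, inferInstance, inferInstance, Red.geomPt s' ≫ f, ?_, ?_⟩
  · rw [Scheme.Hom.comp_apply, geomPt_apply]
  · rw [isCartanOver_comp_iff]
    exact h.2.2.2 s'

end base

end Groth.Agent.Sga3.H831.CartBc
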