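import Groth.Agent.Sga3.H784.NAMain
import Groth.Agent.Agf.H583.ConjSub

/-!
# Conjugacy of Cartan subgroups over an algebraically closed field

`K` algebraically closed, `G` any group scheme locally of finite type over `K` (not necessarily affine).

* `conjBy_centralizer`: if `g` conjugates `i₁` to `i₂` then it conjugates their centralizers;
* `exists_conjBy`: any two Cartan subgroups are conjugate by a rational point;
* `exists_conjSub`: the same in terms of points (`Agf.H583.ConjSub.ConjSub`).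
-/

set_option autoImplicit false
universe u
open CategoryTheory MonoidalCategory CartesianMonoidalCategory MonObj GrpObj AlgebraicGeometry

namespace Groth.Agent.Sga3.H831.CartConj

open Groth.Agent.Sga3.H784 Groth.Agent.Sga3.H784.Conj

section gen

variable {S : Scheme.{u}} {G T₁ T₂ C₁ C₂ : Over S} [GrpObj G]

/-- Conjugate subgroups, in terms of points. -/
lemma conj_comp {i₁ : T₁ ⟶ G} {i₂ : T₂ ⟶ G} {g : 𝟙_ (Over S) ⟶ G} {φ : T₁ ≅ T₂}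
    (h : (toUnit T₁ ≫ g) * i₁ * (toUnit T₁ ≫ g)⁻¹ = φ.hom ≫ i₂) {X : Over S} (t : X ⟶ T₁) :
    (toUnit X ≫ g) * (t ≫ i₁) * (toUnit X ≫ g)⁻¹ = (t ≫ φ.hom) ≫ i₂ := by
  have h1 := congrArg (fun q => t ≫ q) h
  simp only [MonObj.comp_mul, GrpObj.comp_inv, comp_toUnit_assoc] at h1
  rw [h1, Category.assoc]

/-- Conjugation by a point, on subobjects. -/
theorem conjBy_of_factor {c₁ : C₁ ⟶ G} {c₂ : C₂ ⟶ G} [Mono c₁] [Mono c₂]
    {g : 𝟙_ (Over S) ⟶ G} (h₁ : ∃ f : C₁ ⟶ C₂, f ≫ c₂ = c₁ ≫ (conjIso g).hom)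
    (h₂ : ∃ f : C₂ ⟶ C₁, f ≫ c₁ = c₂ ≫ (conjIso g).inv) : SGA3x.ConjBy c₁ c₂ g := by
  obtain ⟨f, hf⟩ := h₁
  obtain ⟨f', hf'⟩ := h₂
  refine ⟨⟨f, f', ?_, ?_⟩, ?_⟩
  · rw [← cancel_mono c₁, Category.assoc, hf', ← Category.assoc, hf, Category.assoc, Iso.hom_inv_id,
      Category.comp_id, Category.id_comp]
  · rw [← cancel_mono c₂, Category.assoc, hf, ← Category.assoc, hf', Category.assoc, Iso.inv_hom_id,
      Category.comp_id, Category.id_comp]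
  · change _ = f ≫ c₂
    rw [hf, comp_conjIso_hom]

variable [GrpObj T₁] [GrpObj T₂] [GrpObj C₁] [GrpObj C₂]

omit [GrpObj T₁] [GrpObj T₂] in
/-- If `g` conjugates `i₁` to `i₂`, it conjugates their centralizers. -/
theorem conjBy_centralizer {i₁ : T₁ ⟶ G} {i₂ : T₂ ⟶ G} {c₁ : C₁ ⟶ G} {c₂ : C₂ ⟶ G}
    (h₁ : Red.IsCentralizerOf i₁ c₁) (h₂ : Red.IsCentralizerOf i₂ c₂) {g : 𝟙_ (Over S) ⟶ G}
    (h : SGA3x.ConjBy i₁ i₂ g) : SGA3x.ConjBy c₁ c₂ g := by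
  obtain ⟨φ, hφ⟩ := h
  have := h₁.2.1
  have := h₂.2.1
  apply conjBy_of_factor
  · refine (h₂.2.2 C₁ (c₁ ≫ (conjIso g).hom)).2 fun X' x t => ?_
    have e1 : t ≫ i₂ = (toUnit X' ≫ g) * ((t ≫ φ.inv) ≫ i₁) * (toUnit X' ≫ g)⁻¹ := by
      rw [conj_comp hφ, Category.assoc, Category.assoc, Iso.inv_hom_id_assoc]
    have e2 : x ≫ c₁ ≫ (conjIso g).hom = (toUnit X' ≫ g) * (x ≫ c₁) * (toUnit X' ≫ g)⁻¹ := by
      rw [← Category.assoc, comp_conjIso_hom]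
    have e3 := (h₁.2.2 X' (x ≫ c₁)).1 ⟨x, rfl⟩ X' (𝟙 X') (t ≫ φ.inv)
    rw [Category.id_comp] at e3
    rw [e1, e2]
    have e4 : ∀ (a b c : X' ⟶ G), b * c = c * b → (a * b * a⁻¹) * (a * c * a⁻¹) =
        (a * c * a⁻¹) * (a * b * a⁻¹) := by
      intro a b c h
      calc (a * b * a⁻¹) * (a * c * a⁻¹) = a * (b * c) * a⁻¹ := by group
        _ = a * (c * b) * a⁻¹ := by rw [h]
        _ = _ := by group
    exact e4 _ _ _ e3
  · refine (h₁.2.2 C₂ (c₂ ≫ (conjIso g).inv)).2 fun X' x t => ?_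
    have e1 : t ≫ i₁ = (toUnit X' ≫ g)⁻¹ * ((t ≫ φ.hom) ≫ i₂) * (toUnit X' ≫ g) := by
      rw [← conj_comp hφ]; group
    have e2 : x ≫ c₂ ≫ (conjIso g).inv = (toUnit X' ≫ g)⁻¹ * (x ≫ c₂) * (toUnit X' ≫ g) := by
      rw [← Category.assoc, comp_conjIso_inv]
    have e3 := (h₂.2.2 X' (x ≫ c₂)).1 ⟨x, rfl⟩ X' (𝟙 X') (t ≫ φ.hom)
    rw [Category.id_comp] at e3
    rw [e1, e2]
    have e4 : ∀ (a b c : X' ⟶ G), b * c = c * b → (a⁻¹ * b * a) * (a⁻¹ * c * a) =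
        (a⁻¹ * c * a) * (a⁻¹ * b * a) := by
      intro a b c h
      calc (a⁻¹ * b * a) * (a⁻¹ * c * a) = a⁻¹ * (b * c) * a := by group
        _ = a⁻¹ * (c * b) * a := by rw [h]
        _ = _ := by group
    exact e4 _ _ _ e3

omit [GrpObj T₁] [GrpObj T₂] [GrpObj C₁] [GrpObj C₂] in
/-- Points form of conjugacy. -/
theorem conjSub_of_conjBy {i₁ : T₁ ⟶ G} {i₂ : T₂ ⟶ G} {g : 𝟙_ (Over S) ⟶ G}
    (h : SGA3x.ConjBy i₁ i₂ g) : Agf.H583.ConjSub.ConjSub i₁ i₂ g := by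
  obtain ⟨φ, hφ⟩ := h
  intro Y y
  obtain rfl : y = toUnit Y := toUnit_unique _ _
  refine ⟨fun q => ⟨q ≫ φ.hom, conj_comp hφ q⟩, fun q' => ⟨q' ≫ φ.inv, ?_⟩⟩
  rw [conj_comp hφ, Category.assoc, Category.assoc, Iso.inv_hom_id_assoc]

end gen

variable {K : Type u} [Field K] [IsAlgClosed K]

/-- **Two Cartan subgroups are conjugate.** -/
theorem exists_conjBy {G C₁ C₂ : Over (Spec (CommRingCat.of K))} [GrpObj G] [GrpObj C₁] [GrpObj C₂]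
    [LocallyOfFiniteType G.hom] (c₁ : C₁ ⟶ G) (c₂ : C₂ ⟶ G) (h₁ : SGA3x.IsCartanOver K c₁)
    (h₂ : SGA3x.IsCartanOver K c₂) :
    ∃ g : 𝟙_ (Over (Spec (CommRingCat.of K))) ⟶ G, SGA3x.ConjBy c₁ c₂ g := by
  obtain ⟨-, -, T₁, _, i₁, hi₁, hc₁⟩ := h₁
  obtain ⟨-, -, T₂, _, i₂, hi₂, hc₂⟩ := h₂
  obtain ⟨g, hg⟩ := NAMain.exists_conjBy i₁ i₂ hi₁ hi₂
  exact ⟨g, conjBy_centralizer hc₁ hc₂ hg⟩

theorem exists_conjSub {G C₁ C₂ : Over (Spec (CommRingCat.of K))} [GrpObj G] [GrpObj C₁] [GrpObj C₂]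
    [LocallyOfFiniteType G.hom] (c₁ : C₁ ⟶ G) (c₂ : C₂ ⟶ G) (h₁ : SGA3x.IsCartanOver K c₁)
    (h₂ : SGA3x.IsCartanOver K c₂) :
    ∃ g : 𝟙_ (Over (Spec (CommRingCat.of K))) ⟶ G, Agf.H583.ConjSub.ConjSub c₁ c₂ g := by
  obtain ⟨g, hg⟩ := exists_conjBy c₁ c₂ h₁ h₂
  exact ⟨g, conjSub_of_conjBy hg⟩

end Groth.Agent.Sga3.H831.CartConj
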