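import Groth.Agent.Sga3B.RG.Closed

/-!
# Roots of unipotent elements

* `commute_of_commute_pow`: `N` locally nilpotent, `n` invertible, `c` commutes with `(1 + N) ^ n` ⟹ `c`
  commutes with `N`;
* `commute_of_isUnip`: an element commuting with `u ^ n`, `u` unipotent, `n` invertible, commutes with `u`.
-/

set_option autoImplicit false
universe u

open Polynomial

namespace Groth.Agent.Sga3.H831.UnipRoot

section End

variable {K : Type*} [Field K] {V : Type*} [AddCommGroup V] [Module K V]

/-- `((1 + X) ^ n - 1) ^ i = X ^ i * (n ^ i + X * q)`. -/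
lemma exists_pow_eq (n i : ℕ) : ∃ q : K[X], ((1 + X) ^ n - 1) ^ i = X ^ i * (C ((n : K) ^ i) + X * q) := by
  obtain ⟨q, hq⟩ : ∃ q : K[X], (1 + X) ^ n - 1 = X * (C (n : K) + X * q) := by
    induction n with
    | zero => exact ⟨0, by simp⟩
    | succ n ih =>
      obtain ⟨q, hq⟩ := ih
      refine ⟨C (n : K) + q + X * q, ?_⟩
      have h1 : (1 + X : K[X]) ^ n = 1 + X * (C (n : K) + X * q) := by rw [← hq]; ring
      rw [pow_succ, h1, Nat.cast_succ, C_add, C_1]
      ring
  have h2 : ∃ r : K[X], (C (n : K) + X * q) ^ i = C ((n : K) ^ i) + X * r := by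
    induction i with
    | zero => exact ⟨0, by simp⟩
    | succ i ih =>
      obtain ⟨r, hr⟩ := ih
      refine ⟨C ((n : K) ^ i) * q + r * C (n : K) + X * r * q, ?_⟩
      rw [pow_succ, hr, pow_succ, C_mul]
      ring
  obtain ⟨r, hr⟩ := h2
  exact ⟨r, by rw [hq, mul_pow, hr]⟩

/-- An operator commuting with a power of a locally unipotent operator commutes with it. -/
theorem commute_of_commute_pow (N c : Module.End K V) (hN : ∀ v, ∃ k : ℕ, (N ^ k) v = 0) {n : ℕ}
    (hn : (n : K) ≠ 0) (h : Commute c ((1 + N) ^ n)) : Commute c N := by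
  -- polynomials in `(1 + N) ^ n`
  have hM : Commute c (aeval N ((1 + X : K[X]) ^ n - 1)) := by
    rw [map_sub, map_pow, map_add, aeval_X, map_one]
    exact h.sub_right (Commute.one_right c)
  refine LinearMap.ext fun v => ?_
  obtain ⟨k₁, hk₁⟩ := hN v
  obtain ⟨k₂, hk₂⟩ := hN (c v)
  have h0 : ∀ (w : V) (k m : ℕ), (N ^ k) w = 0 → k ≤ m → (N ^ m) w = 0 := by
    intro w k m hk hkm
    rw [← Nat.sub_add_cancel hkm, pow_add, Module.End.mul_apply, hk, map_zero]
  -- descending induction
  have key : ∀ j i : ℕ, k₁ + k₂ ≤ i + j → ∀ p : K[X], c (aeval N (X ^ i * p) v) =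
      aeval N (X ^ i * p) (c v) := by
    intro j
    induction j with
    | zero =>
      intro i hi p
      rw [mul_comm, map_mul, Module.End.mul_apply, Module.End.mul_apply, map_pow, aeval_X,
        h0 v k₁ i hk₁ (by omega), h0 (c v) k₂ i hk₂ (by omega), map_zero, map_zero]
    | succ j ih =>
      intro i hi p
      obtain ⟨q, hq⟩ := exists_pow_eq (K := K) n i
      -- `X ^ i * p = p(0) n⁻ⁱ M ^ i + X ^ (i + 1) * r`
      obtain ⟨p', hp'⟩ : ∃ p' : K[X], p = C (p.coeff 0) + X * p' := by
        refine ⟨p.divX, ?_⟩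
        rw [add_comm, mul_comm]
        exact (divX_mul_X_add p).symm
      have hpoly : X ^ i * p = C (p.coeff 0 * ((n : K) ^ i)⁻¹) * ((1 + X) ^ n - 1) ^ i +
          X ^ (i + 1) * (p' - C (p.coeff 0 * ((n : K) ^ i)⁻¹) * q) := by
        rw [hq]
        have h3 : C (p.coeff 0) = C (p.coeff 0 * ((n : K) ^ i)⁻¹) * C ((n : K) ^ i) := by
          rw [← C_mul, mul_assoc, inv_mul_cancel₀ (pow_ne_zero _ hn), mul_one]
        conv_lhs => rw [hp', h3]
        ring
      have h4 : c (aeval N (C (p.coeff 0 * ((n : K) ^ i)⁻¹) * ((1 + X) ^ n - 1) ^ i) v) =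
          aeval N (C (p.coeff 0 * ((n : K) ^ i)⁻¹) * ((1 + X) ^ n - 1) ^ i) (c v) := by
        have h5 : Commute c (aeval N (C (p.coeff 0 * ((n : K) ^ i)⁻¹) * ((1 + X) ^ n - 1) ^ i)) := by
          rw [map_mul, map_pow, aeval_C]
          have h6 : Commute c (algebraMap K (Module.End K V) (p.coeff 0 * ((n : K) ^ i)⁻¹)) :=
            (Algebra.commutes _ c).symm
          exact h6.mul_right (hM.pow_right i)
        exact congrArg (fun q => q v) h5
      rw [hpoly, map_add, LinearMap.add_apply, LinearMap.add_apply, map_add, h4,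
        ih (i + 1) (by omega)]
  have h6 := key (k₁ + k₂) 1 (by omega) 1
  rw [mul_one, pow_one, aeval_X] at h6
  exact h6

end End

open Groth.Agent.Sga3B.RG

variable {K : Type u} [Field K] [IsAlgClosed K] {A : Type u} [CommRing A] [HopfAlgebra K A]
  [Algebra.FiniteType K A] [IsReduced A]

/-- An element commuting with `u ^ n`, `u` unipotent and `n` invertible, commutes with `u`. -/
theorem commute_of_isUnip {u y : Pt K A} (hu : IsUnip u) {n : ℕ} (hn : (n : K) ≠ 0)
    (h : Commute y (u ^ n)) : Commute y u := by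
  let N : Module.End K A := (rTr u).toLinearMap - 1
  have hN : 1 + N = rTrRep K A u := by
    change 1 + ((rTr u).toLinearMap - 1) = (rTr u).toLinearMap
    abel
  have h1 : Commute (rTrRep K A y) ((1 + N) ^ n) := by
    rw [hN, ← map_pow]
    exact h.map (rTrRep K A)
  have h2 := commute_of_commute_pow N (rTrRep K A y) hu hn h1
  have h3 : Commute (rTrRep K A y) (rTrRep K A u) := by
    rw [← hN]
    exact (Commute.one_right _).add_right h2
  have h4 : rTrRep K A (y * u) = rTrRep K A (u * y) := by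
    rw [map_mul, map_mul]
    exact h3
  apply WithConv.ofConv_injective
  refine AlgHom.ext fun a => ?_
  have h5 := congrArg (fun q : Module.End K A => (1 : Pt K A) (q a)) h4
  have h6 : ∀ g : Pt K A, (1 : Pt K A) (rTrRep K A g a) = g a := by
    intro g
    have := rTr_apply_pt g (1 : Pt K A) a
    rw [one_mul] at this
    exact this
  change (1 : Pt K A) (rTrRep K A (y * u) a) = (1 : Pt K A) (rTrRep K A (u * y) a) at h5
  rw [h6, h6] at h5
  exact h5

end Groth.Agent.Sga3.H831.UnipRoot
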