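import Groth.Agent.Sga3.H797.HomFin

/-!
# The centralizer of a finite group of sections, of invertible order, is smooth

`φ : Γ →* G(S)` with `Γ` finite of order invertible on `S`, `G` smooth and separated over `S`.
-/

set_option autoImplicit false
universe u
open CategoryTheory MonoidalCategory CartesianMonoidalCategory MonObj GrpObj AlgebraicGeometry Limits

namespace Groth.Agent.Sga3.H831.TorsCent

open Groth.Agent.Sga3B.CentRep Groth.Agent.Sga3.H797

variable {S : Scheme.{u}} {G Z : Over S} [GrpObj G] {Γ : Type} [Group Γ]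

/-- `z : Z ⟶ G` is the centralizer of the sections `φ γ`. -/
structure IsCent (φ : Γ →* (𝟙_ (Over S) ⟶ G)) (z : Z ⟶ G) : Prop where
  mono : Mono z
  exists_iff : ∀ (X : Over S) (g : X ⟶ G), (∃ a : X ⟶ Z, a ≫ z = g) ↔
    ∀ γ, g * (toUnit X ≫ φ γ) = (toUnit X ≫ φ γ) * g

/-- The points of the centralizer. -/
noncomputable def pts (φ : Γ →* (𝟙_ (Over S) ⟶ G)) (X : Over S) : Subgroup (X ⟶ G) :=
  Subgroup.centralizer (Set.range fun γ => toUnit X ≫ φ γ)

lemma mem_pts {φ : Γ →* (𝟙_ (Over S) ⟶ G)} {X : Over S} {g : X ⟶ G} : g ∈ pts φ X ↔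
    ∀ γ, g * (toUnit X ≫ φ γ) = (toUnit X ≫ φ γ) * g := by
  rw [pts, Subgroup.mem_centralizer_iff]
  constructor
  · intro h γ
    exact (h _ ⟨γ, rfl⟩).symm
  · rintro h _ ⟨γ, rfl⟩
    exact (h γ).symm

/-- **Existence and smoothness of the centralizer.** -/
theorem exists_cent [Finite Γ] [IsSeparated G.hom] [Smooth G.hom] (hn : HomFin.Inv (Nat.card Γ) S)
    (φ : Γ →* (𝟙_ (Over S) ⟶ G)) : ∃ (Z : Over S) (_ : GrpObj Z) (z : Z ⟶ G),
      IsMonHom z ∧ IsClosedImmersion z.left ∧ Smooth Z.hom ∧ IsCent φ z := by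
  obtain ⟨H, υ, hH, hsep, hfp, -⟩ := HomFin.exists_rep G Γ
  have := hfp inferInstance
  let ψ : Γ →* (G ⊗ 𝟙_ (Over S) ⟶ G) :=
    (MulAut.conj (fst G (𝟙_ (Over S)))).toMonoidHom.comp ((InfChart.pre G (toUnit _)).comp φ)
  have hψ : ∀ γ, ψ γ = fst G (𝟙_ (Over S)) * (toUnit _ ≫ φ γ) * (fst G (𝟙_ (Over S)))⁻¹ := fun γ => rfl
  obtain ⟨c, hc, -⟩ := hH.existsUnique _ ψ
  obtain ⟨p, hp, -⟩ := hH.existsUnique _ φ
  let o : G ⊗ 𝟙_ (Over S) ⟶ H ⊗ 𝟙_ (Over S) := lift c (snd _ _)
  have ho : Smooth o.left := HomFin.smooth_orbit hH hn φ o (lift_snd _ _) (fun γ => by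
    rw [← Category.assoc, lift_fst, hc, hψ, toUnit_unique (toUnit _) (snd G (𝟙_ (Over S)))])
  let q : 𝟙_ (Over S) ⟶ H ⊗ 𝟙_ (Over S) := lift p (𝟙 _)
  have hq : IsClosedImmersion q.left := by
    have h1 : q.left ≫ (H ⊗ 𝟙_ (Over S)).hom = 𝟙 S := Over.w q
    have h2 : IsClosedImmersion (q.left ≫ (H ⊗ 𝟙_ (Over S)).hom) := by
      rw [h1]
      exact (inferInstance : IsClosedImmersion (𝟙 S))
    have h30 : IsSeparated (𝟙_ (Over S)).hom := inferInstanceAs (IsSeparated (𝟙 S))
    have h3 : IsSeparated (H ⊗ 𝟙_ (Over S)).hom :=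
      inferInstanceAs (IsSeparated (pullback.fst H.hom (𝟙_ (Over S)).hom ≫ H.hom))
    exact IsClosedImmersion.of_comp _ (H ⊗ 𝟙_ (Over S)).hom
  let Z := pullback o q
  let z : Z ⟶ G := pullback.fst o q ≫ fst _ _
  have hsq := isPullback_left (IsPullback.of_hasPullback o q)
  have h1 : IsClosedImmersion (pullback.fst o q).left := MorphismProperty.of_isPullback hsq.flip hq
  have h2 : Smooth (pullback.snd o q).left := MorphismProperty.of_isPullback hsq ho
  have h3 : IsIso (fst G (𝟙_ (Over S))) := by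
    rw [← rightUnitor_hom]
    infer_instance
  have h4 : IsIso (fst G (𝟙_ (Over S))).left := inferInstanceAs (IsIso ((Over.forget _).map (fst G (𝟙_ (Over S)))))
  have hz : IsClosedImmersion z.left := by
    rw [Over.comp_left]; infer_instance
  have hzm : Mono z := Over.mono_of_mono_left z
  have key : ∀ (X : Over S) (g : X ⟶ G), (∃ a : X ⟶ Z, a ≫ z = g) ↔ g ∈ pts φ X := by
    intro X g
    rw [mem_pts]
    have e0 : ∀ x : X ⟶ G ⊗ 𝟙_ (Over S), x ≫ fst _ _ = g →
        (x ≫ o = toUnit X ≫ q ↔ ∀ γ, g * (toUnit X ≫ φ γ) * g⁻¹ = toUnit X ≫ φ γ) := by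
      intro x hx
      have e1 : x ≫ o = toUnit X ≫ q ↔ x ≫ c = toUnit X ≫ p := by
        rw [comp_lift, comp_lift]
        constructor
        · intro h
          have := congrArg (fun y => y ≫ fst _ _) h
          simpa only [lift_fst] using this
        · intro h
          rw [h, toUnit_unique (x ≫ snd _ _) (toUnit X ≫ 𝟙 _)]
      rw [e1]
      have e2 : ∀ γ, (x ≫ c) ≫ υ γ = g * (toUnit X ≫ φ γ) * g⁻¹ := fun γ => by
        rw [Category.assoc, hc, hψ, MonObj.comp_mul, MonObj.comp_mul, GrpObj.comp_inv, hx,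
          ← Category.assoc, toUnit_unique (x ≫ toUnit _) (toUnit X)]
      have e3 : ∀ γ, (toUnit X ≫ p) ≫ υ γ = toUnit X ≫ φ γ := fun γ => by
        rw [Category.assoc, hp]
      constructor
      · intro h γ
        rw [← e2, ← e3, h]
      · intro h
        exact (hH.existsUnique X ((InfChart.pre G (toUnit X)).comp φ)).unique
          (fun γ => by rw [e2, h]; rfl) (fun γ => by rw [e3]; rfl)
    constructor
    · rintro ⟨a, rfl⟩ γ
      have h5 : (a ≫ pullback.fst o q) ≫ o = toUnit X ≫ q := by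
        rw [Category.assoc, pullback.condition, ← Category.assoc,
          toUnit_unique (a ≫ pullback.snd o q) (toUnit X)]
      have h6 := (e0 _ (Category.assoc _ _ _)).1 h5 γ
      exact mul_inv_eq_iff_eq_mul.mp h6
    · intro h
      let x : X ⟶ G ⊗ 𝟙_ (Over S) := lift g (toUnit X)
      have h5 := (e0 x (lift_fst _ _)).2 (fun γ => mul_inv_eq_iff_eq_mul.mpr (h γ))
      exact ⟨pullback.lift x (toUnit X) h5, by rw [← Category.assoc, pullback.lift_fst, lift_fst]⟩
  obtain ⟨i1, i2⟩ := exists_grpObj z (pts φ) key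
  refine ⟨Z, i1, z, i2, hz, ?_, hzm, fun X g => (key X g).trans mem_pts⟩
  have h5 : Z.hom = (pullback.snd o q).left := by
    have := Over.w (pullback.snd o q)
    exact this.symm.trans (Category.comp_id _)
  rw [h5]
  exact h2

end Groth.Agent.Sga3.H831.TorsCent
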