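import Groth.Agent.Sga3.H784.NAMain
import Groth.Agent.Sga3.H831.TorsCent
import Groth.Agent.Sga3B.RG.TorConj

/-!
# Regular torsion subgroups of a torus

`K` algebraically closed, `G` smooth of finite type over `K`, `i : T ⟶ G` a subtorus, `l` a prime number
invertible in `K`. Then for `m` large the centralizer of `T` in `G` is the centralizer of the finite
group `T[l ^ m](K)`.
-/

set_option autoImplicit false
universe u
open CategoryTheory MonoidalCategory CartesianMonoidalCategory MonObj GrpObj AlgebraicGeometry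

namespace Groth.Agent.Sga3.H831.TorsReg

open Groth.Agent.Sga3.H784 Groth.Agent.Sga3.H784.Commute Groth.Agent.Books.AffBridge Groth.Agent.Books.AffBridge2
open Sga3B.RG Sga3B.RG.BrPts Sga3B.RG.BrTorus Sga3B.RG.BrImg Sga3B.RG.BrDiag Sga3B.RG.BrMax
open Books.AlgPts Books.AlgPtsSmooth

variable {K : Type u} [Field K] [IsAlgClosed K]

/-- Morphisms from a torus to a group scheme which agree on the points of `l`-power order are equal. -/
theorem hom_ext_lTorsion {T G : Over (Spec (CommRingCat.of K))} [GrpObj T] [GrpObj G]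
    (hT : Red.IsTorus T) {l : ℕ} (hl : l.Prime) (hl0 : (l : K) ≠ 0) (f g : T ⟶ G)
    (h : ∀ (m : ℕ) (x : 𝟙_ (Over (Spec (CommRingCat.of K))) ⟶ T), x ^ (l ^ m) = 1 →
      x ≫ f = x ≫ g) : f = g := by
  have hsep := Groth.Agent.Localalg.GrpSchComp2.isSeparated_hom G
  obtain ⟨n, e, he⟩ := isTorus_iff.1 hT
  have hei : IsMonHom e.inv := inferInstance
  rw [← cancel_epi e.inv]
  refine Torsion.hom_ext_of_dense {x : Pt K (KZ K n) | ∃ m : ℕ, x ^ (l ^ m) = 1}
    (fun a ha => eq_zero_of_torsion hl hl0 a fun i t ht => ha _ ⟨i, ?_⟩) _ _ fun x hx => ?_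
  · rw [← map_pow]
    have h1 : t ^ (l ^ i) = 1 := MonoidHom.ext fun x => ht x
    rw [h1, map_one]
  · obtain ⟨m, hxm⟩ := hx
    rw [← Category.assoc, ← Category.assoc]
    refine h m _ ?_
    have h1 := map_pow ((ptHom _ e.inv).comp (ptEquiv K (KZ K n)).toMonoidHom) x (l ^ m)
    rw [hxm, map_one] at h1
    exact h1.symm

/-- The rational points of a torus. -/
theorem exists_ptsEquiv {T : Over (Spec (CommRingCat.of K))} [GrpObj T] (hT : Red.IsTorus T) :
    ∃ n : ℕ, Nonempty ((Multiplicative (Fin n → ℤ) →* Kˣ) ≃*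
      (𝟙_ (Over (Spec (CommRingCat.of K))) ⟶ T)) := by
  obtain ⟨n, e, he⟩ := isTorus_iff.1 hT
  have hei : IsMonHom e.inv := inferInstance
  exact ⟨n, ⟨((torPt (K := K) (Multiplicative (Fin n → ℤ))).trans (ptEquiv K (KZ K n))).trans
      { toFun := fun x => x ≫ e.inv
        invFun := fun x => x ≫ e.hom
        left_inv := fun x => by simp
        right_inv := fun x => by simp
        map_mul' := fun x y => MonObj.mul_comp x y e.inv }⟩⟩

/-- Tori are commutative. -/
theorem mul_comm_of_isTorus {T : Over (Spec (CommRingCat.of K))} [GrpObj T] (hT : Red.IsTorus T)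
    {X : Over (Spec (CommRingCat.of K))} (x y : X ⟶ T) : x * y = y * x := by
  obtain ⟨n, ⟨E⟩⟩ := exists_ptsEquiv hT
  have h := commute_of_points (𝟙 T) (𝟙 T) hT hT (fun t r => by
    rw [Category.comp_id, Category.comp_id]
    obtain ⟨t, rfl⟩ := E.surjective t
    obtain ⟨r, rfl⟩ := E.surjective r
    rw [← map_mul, ← map_mul]
    exact congrArg E (MonoidHom.ext fun z => _root_.mul_comm (t z) (r z))) x y
  rwa [Category.comp_id, Category.comp_id] at h

/-- A finite commutative group is isomorphic to one in `Type`. -/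
theorem exists_small (A : Type u) [CommGroup A] [Finite A] :
    ∃ (Γ : Type) (_ : CommGroup Γ), Nonempty (Γ ≃* A) := by
  obtain ⟨Γ, ⟨ε⟩⟩ : ∃ Γ : Type, Nonempty (Γ ≃ A) := ⟨Fin (Nat.card A), ⟨(Finite.equivFin A).symm⟩⟩
  exact ⟨Γ, ε.commGroup, ⟨ε.mulEquiv⟩⟩

/-- The group of torsion points of a torus. -/
theorem exists_tors {T : Over (Spec (CommRingCat.of K))} [GrpObj T]
    (hT : Red.IsTorus T) {l : ℕ} (hl : l.Prime) (m : ℕ) :
    ∃ (Γ : Type) (_ : CommGroup Γ) (_ : Finite Γ) (φ : Γ →* (𝟙_ (Over (Spec (CommRingCat.of K))) ⟶ T)),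
      (∃ k : ℕ, Nat.card Γ = l ^ k) ∧ ∀ x, x ^ (l ^ m) = 1 ↔ x ∈ Set.range φ := by
  obtain ⟨n, ⟨E⟩⟩ := exists_ptsEquiv hT
  have hpos : l ^ m ≠ 0 := (pow_pos hl.pos m).ne'
  have hne : NeZero (l ^ m) := ⟨hpos⟩
  let A := torsHom K n (l ^ m)
  have hA : Finite A := finite_torsHom n (l ^ m)
  obtain ⟨Γ, _, ⟨ε'⟩⟩ := exists_small A
  have hΓ : Finite Γ := Finite.of_equiv A ε'.symm.toEquiv
  refine ⟨Γ, inferInstance, inferInstance,
    (E.toMonoidHom.comp A.subtype).comp ε'.toMonoidHom, ?_, ?_⟩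
  · have hp : Fact l.Prime := ⟨hl⟩
    have h1 : IsPGroup l Γ := by
      intro x
      refine ⟨m, ?_⟩
      apply ε'.injective
      rw [map_pow, map_one]
      apply Subtype.ext
      refine MonoidHom.ext fun y => ?_
      exact (ε' x).2 y
    exact IsPGroup.iff_card.1 h1
  · intro x
    constructor
    · intro hx
      have h1 : E.symm x ∈ A := by
        intro y
        have h3 := map_pow E.toMonoidHom (E.symm x) (l ^ m)
        have h4 : E.toMonoidHom (E.symm x) = x := E.apply_symm_apply x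
        rw [h4, hx] at h3
        have h2 : (E.symm x) ^ (l ^ m) = 1 := E.injective (h3.trans (map_one E).symm)
        exact congrArg (fun q => q y) h2
      refine ⟨ε'.symm ⟨E.symm x, h1⟩, ?_⟩
      change E (ε' (ε'.symm ⟨E.symm x, h1⟩) : A) = x
      rw [MulEquiv.apply_symm_apply]
      exact E.apply_symm_apply x
    · rintro ⟨γ, rfl⟩
      have h2 : ((ε' γ : A) : Multiplicative (Fin n → ℤ) →* Kˣ) ^ (l ^ m) = 1 :=
        MonoidHom.ext fun y => (ε' γ).2 y
      have h3 := map_pow E.toMonoidHom ((ε' γ : A) : Multiplicative (Fin n → ℤ) →* Kˣ) (l ^ m)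
      rw [h2, map_one] at h3
      exact h3.symm

lemma inv_of_ne_zero {K : Type u} [Field K] {n : ℕ} (hn : (n : K) ≠ 0) :
    Groth.Agent.Sga3.H797.HomFin.Inv n (Spec (CommRingCat.of K)) := by
  have h1 : IsUnit (n : K) := isUnit_iff_ne_zero.2 hn
  have h2 := IsUnit.map (Scheme.ΓSpecIso (CommRingCat.of K)).inv.hom h1
  rwa [map_natCast] at h2

/-- **The centralizer of a torus is the centralizer of a finite group of torsion points.** -/
theorem exists_regular {T G : Over (Spec (CommRingCat.of K))} [GrpObj T] [GrpObj G] [Smooth G.hom]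
    [QuasiCompact G.hom] (i : T ⟶ G) [IsMonHom i] (hT : Red.IsTorus T) {l : ℕ} (hl : l.Prime)
    (hl0 : (l : K) ≠ 0) :
    ∃ (Γ : Type) (_ : CommGroup Γ) (_ : Finite Γ) (φ : Γ →* (𝟙_ (Over (Spec (CommRingCat.of K))) ⟶ T)),
      (∃ k : ℕ, Nat.card Γ = l ^ k) ∧ ∀ (X : Over (Spec (CommRingCat.of K))) (g : X ⟶ G),
        (∀ γ, g * (toUnit X ≫ φ γ ≫ i) = (toUnit X ≫ φ γ ≫ i) * g) →
        ∀ t : X ⟶ T, g * (t ≫ i) = (t ≫ i) * g := by
  have hsep : IsSeparated G.hom := Groth.Agent.Localalg.GrpSchComp2.isSeparated_hom G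
  -- the centralizers of the groups of torsion points
  choose Γ hΓ1 hΓ2 φ hφ using exists_tors hT hl
  let ψ : ∀ m, Γ m →* (𝟙_ (Over (Spec (CommRingCat.of K))) ⟶ G) := fun m =>
    (ptHom _ i).comp (φ m)
  have hψ : ∀ m γ, ψ m γ = φ m γ ≫ i := fun m γ => rfl
  have hinv : ∀ m, Groth.Agent.Sga3.H797.HomFin.Inv (Nat.card (Γ m)) (Spec (CommRingCat.of K)) := by
    intro m
    obtain ⟨k, hk⟩ := (hφ m).1
    refine inv_of_ne_zero ?_
    rw [hk, Nat.cast_pow]
    exact pow_ne_zero _ hl0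
  choose Z hZ z hz1 hz2 hz3 hz4 using fun m => TorsCent.exists_cent (hinv m) (ψ m)
  have hle : ∀ m m', m ≤ m' → ∃ a : Z m' ⟶ Z m, a ≫ z m = z m' := by
    intro m m' hmm
    refine ((hz4 m).exists_iff _ _).2 fun γ => ?_
    have h1 : (φ m γ) ^ (l ^ m) = 1 := ((hφ m).2 _).2 ⟨γ, rfl⟩
    obtain ⟨γ', hγ'⟩ := ((hφ m').2 (φ m γ)).1 (by
      rw [← Nat.add_sub_cancel' hmm, pow_add, pow_mul, h1, one_pow])
    have h2 := ((hz4 m').exists_iff _ (z m')).1 ⟨𝟙 _, Category.id_comp _⟩ γ'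
    rw [hψ] at h2 ⊢
    rwa [hγ'] at h2
  -- stationarity
  have hnoeth : TopologicalSpace.NoetherianSpace G.left := by
    have h1 : IsLocallyNoetherian G.left := LocallyOfFiniteType.isLocallyNoetherian G.hom
    have h2 : CompactSpace G.left := QuasiCompact.compactSpace_of_compactSpace G.hom
    have h3 : IsNoetherian G.left := {}
    infer_instance
  let F : ℕ → TopologicalSpace.Closeds G.left := fun m =>
    ⟨Set.range (z m).left, (z m).left.isClosedEmbedding.isClosed_range⟩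
  have hF : Antitone F := by
    intro m m' hmm
    obtain ⟨a, ha⟩ := hle m m' hmm
    rintro _ ⟨y, rfl⟩
    refine ⟨a.left y, ?_⟩
    rw [← ha]
    rfl
  obtain ⟨M, hM⟩ : ∃ M, ∀ m, M ≤ m → F M = F m := by
    have hwf : WellFoundedLT (TopologicalSpace.Closeds G.left) := inferInstance
    obtain ⟨_, ⟨M, rfl⟩, hM⟩ := hwf.wf.has_min (Set.range F) ⟨_, 0, rfl⟩
    refine ⟨M, fun m hm => ?_⟩
    by_contra hne
    exact hM (F m) ⟨m, rfl⟩ (lt_of_le_of_ne (hF hm) (fun h => hne h.symm))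
  -- `Z M` commutes with all torsion points
  have hcomm : ∀ (m : ℕ) (x : 𝟙_ (Over (Spec (CommRingCat.of K))) ⟶ T), x ^ (l ^ m) = 1 →
      z M * (toUnit _ ≫ x ≫ i) = (toUnit _ ≫ x ≫ i) * z M := by
    intro m x hx
    have hx' : x ^ (l ^ (max m M)) = 1 := by
      rw [← Nat.add_sub_cancel' (le_max_left m M), pow_add, pow_mul, hx, one_pow]
    obtain ⟨γ, hγ⟩ := ((hφ (max m M)).2 x).1 hx'
    obtain ⟨a, ha⟩ := hle M (max m M) (le_max_right _ _)
    have h1 : IsClosedImmersion (a.left ≫ (z M).left) := by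
      rw [← Over.comp_left, ha]
      exact hz2 _
    have h2 : IsClosedImmersion a.left := IsClosedImmersion.of_comp a.left (z M).left
    have h3 : Surjective a.left := by
      refine ⟨fun y => ?_⟩
      have h4 : (z M).left y ∈ F (max m M) := by
        rw [← hM _ (le_max_right _ _)]
        exact ⟨y, rfl⟩
      obtain ⟨w, hw⟩ := h4
      refine ⟨w, (z M).left.isClosedEmbedding.injective ?_⟩
      rw [← hw, ← ha]
      rfl
    have h4 : IsReduced (Z M).left := isReduced_of_smooth (Z M)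
    have h5 : IsIso a.left := isIso_of_isClosedImmersion_of_surjective a.left
    have h6 : IsIso a := by
      have : IsIso ((Over.forget _).map a) := h5
      exact isIso_of_reflects_iso a (Over.forget _)
    have h7 := ((hz4 (max m M)).exists_iff _ (z M)).1 ⟨inv a, by
      rw [IsIso.inv_comp_eq, ha]⟩ γ
    rw [hψ, hγ] at h7
    exact h7
  -- `Z M` commutes with `T`
  have hlT : LocallyOfFiniteType T.hom := lft_of_isTorus hT
  have hsT := smooth_of_isTorus hT
  have hsm : Smooth (Z M ⊗ T).hom := by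
    rw [Over.tensorObj_hom]
    have := hz3 M
    infer_instance
  have hred : IsReduced (Z M ⊗ T).left := isReduced_of_smooth (Z M ⊗ T)
  have hu : toUnit (𝟙_ (Over (Spec (CommRingCat.of K)))) = 𝟙 _ := toUnit_unique _ _
  have key : (fst (Z M) T ≫ z M) * (snd (Z M) T ≫ i) = (snd (Z M) T ≫ i) * (fst (Z M) T ≫ z M) := by
    refine hom_ext_of_points _ _ fun x => ?_
    have h1 : (toUnit T ≫ x ≫ fst _ _ ≫ z M) * i = i * (toUnit T ≫ x ≫ fst _ _ ≫ z M) := by
      refine hom_ext_lTorsion hT hl hl0 _ _ fun m y hy => ?_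
      have h2 := congrArg (fun q => (x ≫ fst _ _) ≫ q) (hcomm m y hy)
      simp only [MonObj.comp_mul, comp_toUnit_assoc, Category.assoc, hu, Category.id_comp] at h2 ⊢
      exact h2
    have h3 := congrArg (fun q => (x ≫ snd _ _) ≫ q) h1
    simp only [MonObj.comp_mul, comp_toUnit_assoc, Category.assoc, hu, Category.id_comp] at h3 ⊢
    exact h3
  refine ⟨Γ M, hΓ1 M, hΓ2 M, φ M, (hφ M).1, fun X g hg t => ?_⟩
  obtain ⟨a, ha⟩ := ((hz4 M).exists_iff X g).2 (fun γ => by rw [hψ]; exact hg γ)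
  have h := congrArg (fun q => lift a t ≫ q) key
  simp only [MonObj.comp_mul, ← Category.assoc, lift_fst, lift_snd] at h
  rw [ha] at h
  exact h

/-- K3: a Cartan subgroup is the centralizer of a finite group of points of `l`-power order. -/
theorem exists_regular_cartan {C G : Over (Spec (CommRingCat.of K))} [GrpObj C] [GrpObj G]
    [Smooth G.hom] [QuasiCompact G.hom] (c : C ⟶ G) (hc : SGA3x.IsCartanOver K c) {l : ℕ}
    (hl : l.Prime) (hl0 : (l : K) ≠ 0) :
    ∃ (Γ : Type) (_ : CommGroup Γ) (_ : Finite Γ) (φ : Γ →* (𝟙_ (Over (Spec (CommRingCat.of K))) ⟶ C)),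
      (∃ k : ℕ, Nat.card Γ = l ^ k) ∧ ∀ (X : Over (Spec (CommRingCat.of K))) (g : X ⟶ G),
        (∃ t : X ⟶ C, t ≫ c = g) ↔
          ∀ γ, g * (toUnit X ≫ φ γ ≫ c) = (toUnit X ≫ φ γ ≫ c) * g := by
  obtain ⟨hc1, hc2, T, _, i, hi, hic⟩ := hc
  have := hi.1
  obtain ⟨Γ, _, _, φ, hcard, hφ⟩ := exists_regular i hi.2.2.1 hl hl0
  -- `T` is contained in `C`
  obtain ⟨τ, hτ⟩ := (hic.2.2 T i).2 (fun X' x h => by
    rw [← MonObj.mul_comp, ← MonObj.mul_comp, mul_comm_of_isTorus hi.2.2.1])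
  have hτm : IsMonHom τ := by
    have : IsMonHom (τ ≫ c) := by rw [hτ]; infer_instance
    exact Sga3C.SubGrp.isMonHom_of_comp_mono τ c
  refine ⟨Γ, inferInstance, inferInstance, (ptHom _ τ).comp φ, hcard, fun X g => ?_⟩
  have e : ∀ γ, ((ptHom (𝟙_ (Over (Spec (CommRingCat.of K)))) τ).comp φ) γ ≫ c = φ γ ≫ i := by
    intro γ
    change (φ γ ≫ τ) ≫ c = _
    rw [Category.assoc, hτ]
  constructor
  · rintro hg γ
    rw [e]
    have h1 := (hic.2.2 X g).1 hg X (𝟙 X) (toUnit X ≫ φ γ)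
    rwa [Category.id_comp, Category.assoc] at h1
  · intro hg
    refine (hic.2.2 X g).2 fun X' x t => ?_
    refine hφ X' (x ≫ g) (fun γ => ?_) t
    have h1 := congrArg (fun q => x ≫ q) (hg γ)
    rw [e] at h1
    simpa only [MonObj.comp_mul, comp_toUnit_assoc] using h1

end Groth.Agent.Sga3.H831.TorsReg
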